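import Cfsg.Agent.ClMax99.TensorRank
import Cfsg.Agent.ClMax99.SympOddElt
import Cfsg.Agent.ClMax99.SpGLCard
import Cfsg.Agent.ClMax99.AltSim
import Cfsg.Agent.ClMax99.SympConj
import Cfsg.Agent.Classical10.NotMax.Tensor

/-!
Tensor decompositions of the symplectic form as symplectic times orthogonal.
-/

set_option autoImplicit false
set_option linter.unusedSectionVars false

namespace Cfsg.Agent.SpTensor

open Cfsg.Agent Cfsg.Agent.ClMax99 Module
open Cfsg.Agent.Symplectic (Vec Sp)
open scoped Matrix Kronecker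

variable {F : Type*} [Field F] [Fintype F] {d a b : ℕ}

theorem kron_pow (g : Matrix (Fin a) (Fin a) F) (h : Matrix (Fin b) (Fin b) F) (k : ℕ) :
    (g ⊗ₖ h) ^ k = (g ^ k) ⊗ₖ (h ^ k) := by
  induction k with
  | zero => simp
  | succ k ih => rw [pow_succ, ih, pow_succ, pow_succ, ← Matrix.mul_kronecker_mul]

section Action

variable {e : (Fin d ⊕ Fin d) ≃ Fin a × Fin b} {P : GL (Fin d ⊕ Fin d) F}

/-- The action of a member of the stabiliser on pure tensors. -/
theorem action {k : GL (Fin a × Fin b) F} {g : Matrix (Fin a) (Fin a) F} {h : Matrix (Fin b) (Fin b) F}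
    (hk : (k : Matrix (Fin a × Fin b) (Fin a × Fin b) F) = g ⊗ₖ h) (u : Fin a → F) (v : Fin b → F) :
    ((P * Cfsg.Geo.glReindex e.symm k * P⁻¹ : GL (Fin d ⊕ Fin d) F) : Matrix _ _ F) *ᵥ NotMax.ten e P u v =
      NotMax.ten e P (g *ᵥ u) (h *ᵥ v) := by
  simp only [NotMax.ten_apply, Units.val_mul]
  rw [← Matrix.mulVec_mulVec, ← Matrix.mulVec_mulVec, MaxSub.inv_mulVec_mulVec]
  congr 1
  show (Matrix.reindex e.symm e.symm (k : Matrix _ _ F)) *ᵥ _ = _
  rw [hk, Matrix.reindex_apply, Matrix.submatrix_mulVec_equiv]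
  simp only [Equiv.symm_symm, Function.comp_assoc, Equiv.self_comp_symm, Function.comp_id]
  congr 1
  exact TensorRank.kronecker_mulVec g h u v

/-- The two factors of a member of the stabiliser. -/
theorem data {y : GL (Fin d ⊕ Fin d) F} (hy : y ∈ Cfsg.Geo.tensorProductSubgroup a b e P) :
    ∃ (g : GL (Fin a) F) (h : GL (Fin b) F),
      (∀ s : F, ((y : Matrix (Fin d ⊕ Fin d) (Fin d ⊕ Fin d) F) - s • 1).rank =
        ((g : Matrix (Fin a) (Fin a) F) ⊗ₖ (h : Matrix (Fin b) (Fin b) F) - s • 1).rank) ∧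
      (∀ k : ℕ, y ^ k = 1 → ((g : Matrix (Fin a) (Fin a) F) ^ k) ⊗ₖ ((h : Matrix (Fin b) (Fin b) F) ^ k) = 1) ∧
      ∀ u v, (y : Matrix (Fin d ⊕ Fin d) (Fin d ⊕ Fin d) F) *ᵥ NotMax.ten e P u v =
        NotMax.ten e P ((g : Matrix (Fin a) (Fin a) F) *ᵥ u) ((h : Matrix (Fin b) (Fin b) F) *ᵥ v) := by
  obtain ⟨w, ⟨k, ⟨g, h, hk⟩, rfl⟩, rfl⟩ := hy
  refine ⟨g, h, fun s => ?_, fun n hn => ?_, fun u v => action hk u v⟩
  · show ((P : Matrix _ _ F) * Matrix.reindex e.symm e.symm (k : Matrix _ _ F) * ((P⁻¹ : GL _ F) : Matrix _ _ F)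
      - s • 1).rank = _
    rw [TensorRank.rank_conj, TensorRank.rank_reindex_sub, hk]
  · have h1 : (k ^ n : GL (Fin a × Fin b) F) = 1 :=
      (Cfsg.Geo.glReindex (F := F) e.symm).injective ((MulAut.conj P).injective (by
        rw [map_pow, map_pow, map_one, map_one]; exact hn))
    have h2 := congrArg Units.val h1
    rw [Units.val_pow_eq_pow_val, hk, Units.val_one] at h2
    rw [← kron_pow]
    exact h2

end Action

/-- The displacement of a matrix as the moved space of its linear map. -/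
theorem rank_sub_one {ι : Type*} [Fintype ι] [DecidableEq ι] (A : Matrix ι ι F) :
    (A - (1 : F) • 1).rank = finrank F (LinearMap.range (Matrix.toLin' A - 1)) := by
  rw [TensorRank.rank_eq, map_sub, one_smul, Matrix.toLin'_one]
  rfl

theorem rank_smul_kronecker (s : F) (h : Matrix (Fin b) (Fin b) F) :
    ((s • (1 : Matrix (Fin a) (Fin a) F)) ⊗ₖ h - (1 : F) • 1).rank = a * (s • h - (1 : F) • 1).rank := by
  rw [← TensorRank.rank_one_kronecker]
  congr 1
  ext p p'
  simp [Matrix.one_apply, Prod.ext_iff]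
  split_ifs <;> simp_all

theorem rank_kronecker_smul (s : F) (g : Matrix (Fin a) (Fin a) F) :
    (g ⊗ₖ (s • (1 : Matrix (Fin b) (Fin b) F)) - (1 : F) • 1).rank = b * (s • g - (1 : F) • 1).rank := by
  rw [← TensorRank.rank_one_kronecker, ← Matrix.rank_reindex (Equiv.prodComm _ _) (Equiv.prodComm _ _)]
  congr 1
  ext p p'
  simp [Matrix.one_apply, Prod.ext_iff]
  split_ifs <;> simp_all [mul_comm]

/-- Both factors non-scalar: more than `b` dimensions are moved. -/
theorem lt_rank_of_nonscalar {g : Matrix (Fin a) (Fin a) F} (ha : 3 ≤ a) (hg : ∀ s : F, g ≠ s • 1)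
    (h : GL (Fin b) F) (hh : ∀ s : F, (h : Matrix (Fin b) (Fin b) F) ≠ s • 1) {c : F} (hc : c ≠ 0) :
    b < (g ⊗ₖ (h : Matrix (Fin b) (Fin b) F) - c • 1).rank := by
  classical
  obtain ⟨u, hu⟩ : ∃ u : Fin a → F, g *ᵥ u ∉ Submodule.span F {u} := by
    by_contra hn
    push Not at hn
    choose s hs using fun u => Submodule.mem_span_singleton.1 (hn u)
    obtain ⟨i₀⟩ : Nonempty (Fin a) := ⟨⟨0, by omega⟩⟩
    refine hg (s (Pi.single i₀ 1)) (Matrix.ext fun i j => ?_)
    have hij : ∀ k l, g k l = if k = l then s (Pi.single l 1) else 0 := fun k l => by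
      have := congrFun (hs (Pi.single l 1)) k
      rw [Matrix.mulVec_single_one] at this
      rw [show g k l = g.col l k from rfl, ← this]
      simp [Pi.single_apply]
    have hs' : s (Pi.single j 1) = s (Pi.single i₀ 1) := by
      by_cases hj : j = i₀
      · rw [hj]
      have e1 := congrFun (hs (Pi.single j 1 + Pi.single i₀ 1)) j
      have e2 := congrFun (hs (Pi.single j 1 + Pi.single i₀ 1)) i₀
      simp only [Matrix.mulVec_add, Matrix.mulVec_single_one, Pi.add_apply, Matrix.col_apply, hij, Pi.smul_apply,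
        Pi.single_apply, hj, Ne.symm hj, if_true, if_false, smul_eq_mul] at e1 e2
      simp only [add_zero, zero_add, mul_one] at e1 e2
      rw [← e1, e2]
    rw [hij, Matrix.smul_apply, Matrix.one_apply, hs']
    simp
  set f := Matrix.toLin' (g ⊗ₖ (h : Matrix (Fin b) (Fin b) F) - c • 1) with hf
  let L : (Fin a → F) → (Fin b → F) →ₗ[F] (Fin a × Fin b → F) := fun u =>
    { toFun := fun w p => u p.1 * w p.2
      map_add' := fun w w' => by funext p; simp [mul_add]
      map_smul' := fun t w => by funext p; simp [mul_left_comm] }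
  let Ψ : Dual F (Fin a → F) → (Fin a × Fin b → F) →ₗ[F] (Fin b → F) := fun φ =>
    LinearMap.pi fun l => φ ∘ₗ LinearMap.pi fun i => LinearMap.proj (i, l)
  have hcomp : ∀ φ u w, Ψ φ (f (L u w)) =
      φ (g *ᵥ u) • ((h : Matrix (Fin b) (Fin b) F) *ᵥ w) - (c * φ u) • w := fun φ u w => by
    funext l
    show φ (fun i => f (L u w) (i, l)) = _
    have : (fun i => f (L u w) (i, l)) = ((h : Matrix (Fin b) (Fin b) F) *ᵥ w) l • (g *ᵥ u) - (c * w l) • u := by
      funext i
      simp only [f, L, Matrix.toLin'_apply, Matrix.sub_mulVec, Matrix.smul_mulVec, Matrix.one_mulVec,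
        LinearMap.coe_mk, AddHom.coe_mk, TensorRank.kronecker_mulVec, Pi.sub_apply, Pi.smul_apply, smul_eq_mul]
      ring
    rw [this, map_sub, map_smul, map_smul]
    simp only [Pi.sub_apply, Pi.smul_apply, smul_eq_mul]
    ring
  have hinj : Function.Injective (f ∘ₗ L u) := (injective_iff_map_eq_zero _).2 fun w hw => by
    obtain ⟨φ, hφ, hφu⟩ := Submodule.exists_dual_map_eq_bot_of_notMem hu inferInstance
    have hφu' : φ u = 0 := by
      have : φ u ∈ Submodule.map φ (Submodule.span F {u}) :=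
        Submodule.mem_map_of_mem (Submodule.mem_span_singleton_self u)
      rwa [hφu, Submodule.mem_bot] at this
    have := hcomp φ u w
    rw [show f (L u w) = 0 from hw, map_zero, hφu', mul_zero, zero_smul, sub_zero, eq_comm, smul_eq_zero] at this
    have h' := this.resolve_left hφ
    have := congrArg (((h⁻¹ : GL (Fin b) F) : Matrix (Fin b) (Fin b) F) *ᵥ ·) h'
    simpa [Matrix.mulVec_mulVec, ← Units.val_mul] using this
  obtain ⟨v, hv⟩ : ∃ v, v ∉ Submodule.span F (Set.range ![u, g *ᵥ u]) := by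
    by_contra hn
    push Not at hn
    have h1 := Submodule.finrank_mono (t := Submodule.span F (Set.range ![u, g *ᵥ u])) (s := ⊤) fun x _ => hn x
    have h2 : finrank F (Submodule.span F (Set.range ![u, g *ᵥ u])) ≤ Fintype.card (Fin 2) :=
      finrank_range_le_card (R := F) ![u, g *ᵥ u]
    rw [finrank_top, Module.finrank_fin_fun] at h1
    simp at h2
    omega
  obtain ⟨φ, hφ, hφ0⟩ := Submodule.exists_dual_map_eq_bot_of_notMem hv inferInstance
  have hφ' : ∀ k, φ (![u, g *ᵥ u] k) = 0 := fun k => by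
    have : φ (![u, g *ᵥ u] k) ∈ Submodule.map φ (Submodule.span F (Set.range ![u, g *ᵥ u])) :=
      Submodule.mem_map_of_mem (Submodule.subset_span ⟨k, rfl⟩)
    rwa [hφ0, Submodule.mem_bot] at this
  have hker : LinearMap.range (f ∘ₗ L u) ≤ LinearMap.ker (Ψ φ) := by
    rintro _ ⟨w, rfl⟩
    rw [LinearMap.mem_ker, LinearMap.comp_apply, hcomp, show φ u = 0 from hφ' 0, show φ (g *ᵥ u) = 0 from hφ' 1]
    simp
  obtain ⟨w, hw⟩ : ∃ w, φ (g *ᵥ v) • ((h : Matrix (Fin b) (Fin b) F) *ᵥ w) - (c * φ v) • w ≠ 0 := by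
    by_contra hn
    push Not at hn
    rcases eq_or_ne (φ (g *ᵥ v)) 0 with h0 | h0
    · rcases Nat.eq_zero_or_pos b with rfl | hb
      · exact hh 0 (Matrix.ext fun i => i.elim0)
      have := congrFun (hn (Pi.single ⟨0, hb⟩ 1)) ⟨0, hb⟩
      simp [h0, hc, hφ] at this
    · refine hh ((φ (g *ᵥ v))⁻¹ * (c * φ v)) (Matrix.toLin'.injective (LinearMap.ext fun w => ?_))
      have := sub_eq_zero.1 (hn w)
      rw [Matrix.toLin'_apply, map_smul, Matrix.toLin'_one, LinearMap.smul_apply, LinearMap.id_apply, ← smul_smul,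
        ← this, inv_smul_smul₀ h0]
  have hlt : LinearMap.range (f ∘ₗ L u) < LinearMap.range f := by
    refine lt_of_le_of_ne (LinearMap.range_comp_le_range _ _) fun he => hw ?_
    rw [← hcomp]
    exact hker (he ▸ LinearMap.mem_range_self f (L v w))
  have h1 := LinearMap.finrank_range_of_inj hinj
  rw [Module.finrank_fin_fun] at h1
  rw [TensorRank.rank_eq]
  calc b = finrank F (LinearMap.range (f ∘ₗ L u)) := h1.symm
    _ < _ := Submodule.finrank_lt_finrank_of_lt hlt

section Orth

variable {V : Type*} [AddCommGroup V] [Module F V] [FiniteDimensional F V]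

/-- The moved dimension of an orthogonal element of odd prime order. -/
theorem dvd_moved_orth {r : ℕ} [hr : Fact r.Prime] (hrF : (r : F) ≠ 0) (hodd : Odd r)
    (B : LinearMap.BilinForm F V) (hB : ∀ u v, B u v = B v u) (hnd : ∀ u, (∀ v, B u v = 0) → u = 0)
    {T : Module.End F V} (hT : ∀ u v, B (T u) (T v) = B u v) (hf : T ^ r = 1) {i c : ℕ}
    (hi : i = orderOf (Fintype.card F : ZMod r)) (hc : c = if Even i then i else 2 * i) :
    c ∣ finrank F (LinearMap.range (T - 1)) := by
  have h1 := Inv.dvd_finrank_moved hrF hf (W := ⊤) (by simp)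
  rw [Submodule.map_top, ← hi] at h1
  set D := T - T ^ (r - 1) with hD
  have hinv : ∀ u, T ((T ^ (r - 1)) u) = u := fun u => by
    rw [← Module.End.mul_apply, ← pow_succ', Nat.sub_add_cancel hr.out.one_le, hf, Module.End.one_apply]
  let β : LinearMap.BilinForm F V := LinearMap.compl₁₂ B LinearMap.id D
  have hβ : β.IsAlt := fun u => by
    show B u (T u - (T ^ (r - 1)) u) = 0
    rw [map_sub, ← hT u ((T ^ (r - 1)) u), hinv, hB (T u) u, sub_self]
  have h2 : Even (finrank F (LinearMap.range (T - 1))) := by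
    refine AltSim.even_finrank β hβ _ fun u hu h => ?_
    have hdis := Inv.disjoint_ker_range hrF hf
    have htop : LinearMap.ker (T - 1) ⊔ LinearMap.range (T - 1) = ⊤ := by
      refine Submodule.eq_top_of_disjoint _ _ ?_ hdis
      rw [add_comm, LinearMap.finrank_range_add_finrank_ker]
    have hD0 : D u = 0 := hnd _ fun y => by
      obtain ⟨k, hk, m, hm, rfl⟩ := Submodule.mem_sup.1
        (htop ▸ Submodule.mem_top : y ∈ LinearMap.ker (T - 1) ⊔ LinearMap.range (T - 1))
      rw [hB, map_add, LinearMap.add_apply]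
      have e1 : B m (D u) = 0 := by
        show β m u = 0
        rw [← LinearMap.IsAlt.neg hβ u m, h m hm, neg_zero]
      obtain ⟨z, rfl⟩ := hu
      rw [LinearMap.mem_ker, LinearMap.sub_apply, Module.End.one_apply, sub_eq_zero] at hk
      have hDc : D ((T - 1) z) = (T - 1) (D z) := by
        rw [← Module.End.mul_apply, ← Module.End.mul_apply]
        refine congrArg (fun A : Module.End F V => A z) ?_
        simp only [hD, mul_sub, sub_mul, mul_one, one_mul, ← pow_succ, ← pow_succ']
        abel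
      have e := hT k (D z)
      rw [hk] at e
      rw [e1, add_zero, hDc, LinearMap.sub_apply, Module.End.one_apply, map_sub, e, sub_self]
    refine (Submodule.mem_bot F).1 (hdis.eq_bot ▸ Submodule.mem_inf.2 ⟨?_, hu⟩)
    have e1 : T u = (T ^ (r - 1)) u := sub_eq_zero.1 hD0
    have e2 : (T * T) u = u := by rw [Module.End.mul_apply, e1, hinv]
    obtain ⟨l, hl⟩ := hodd
    have e3 : ∀ n : ℕ, ((T * T) ^ n) u = u := fun n => by
      induction n with
      | zero => simp
      | succ n ih => rw [pow_succ, Module.End.mul_apply, e2, ih]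
    have e4 : (T ^ r) (T u) = T u := by rw [hf, Module.End.one_apply]
    rw [← Module.End.mul_apply, ← pow_succ, show r + 1 = 2 * (l + 1) by omega, pow_mul, pow_two, e3] at e4
    rw [LinearMap.mem_ker, LinearMap.sub_apply, Module.End.one_apply, ← e4, sub_self]
  rw [hc]
  split_ifs with he
  · exact h1
  · exact (Nat.Coprime.mul_dvd_of_dvd_of_dvd (Nat.coprime_two_left.2 (Nat.not_even_iff_odd.1 he)) h2.two_dvd h1)

end Orth

section Conjugacy

local notation "B₀" => Forms.sympBilin d F

/-- A symplectic family of full size. -/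
structure Fam (u v : Fin d → Vec d F) : Prop where
  uv : ∀ i j, B₀ (u i) (v j) = if i = j then 1 else 0
  uu : ∀ i j, B₀ (u i) (u j) = 0
  vv : ∀ i j, B₀ (v i) (v j) = 0

theorem Fam.exists_basis {u v : Fin d → Vec d F} (h : Fam u v) :
    ∃ w : Basis (Fin d ⊕ Fin d) F (Vec d F), ⇑w = Sum.elim u v := by
  have hsw : ∀ x y, B₀ y x = -B₀ x y := fun x y =>
    (LinearMap.IsAlt.neg (B := B₀) Forms.sympBilin_isAlt x y).symm
  have hli : LinearIndependent F (Sum.elim u v) := by
    rw [Fintype.linearIndependent_iff]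
    intro g hg
    simp only [Fintype.sum_sum_type, Sum.elim_inl, Sum.elim_inr] at hg
    rintro (i | i)
    · have := congrArg (fun z => B₀ z (v i)) hg
      simp only [map_add, map_sum, map_smul, LinearMap.add_apply, LinearMap.sum_apply, LinearMap.smul_apply,
        smul_eq_mul, h.uv, h.vv, map_zero, LinearMap.zero_apply, mul_zero, mul_ite, mul_one,
        Finset.sum_const_zero, add_zero, Finset.sum_ite_eq', Finset.mem_univ, if_true] at this
      exact this
    · have := congrArg (fun z => B₀ z (u i)) hg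
      simp only [map_add, map_sum, map_smul, LinearMap.add_apply, LinearMap.sum_apply, LinearMap.smul_apply,
        smul_eq_mul, hsw (u i) (v _), h.uv, h.uu, map_zero, LinearMap.zero_apply, mul_zero, mul_neg, mul_ite,
        mul_one, Finset.sum_const_zero, zero_add, Finset.sum_neg_distrib, Finset.sum_ite_eq, Finset.mem_univ,
        if_true, neg_eq_zero] at this
      exact this
  exact ⟨Basis.mk hli (ge_of_eq (hli.span_eq_top_of_card_eq_finrank' (by simp))), Basis.coe_mk _ _⟩

/-- Elements acting in the same way on symplectic families are conjugate. -/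
theorem conj_of_fam {u v u' v' : Fin d → Vec d F} (h : Fam u v) (h' : Fam u' v')
    {x x' : GL (Fin d ⊕ Fin d) F} (σ : (Fin d ⊕ Fin d) → (Fin d ⊕ Fin d)) (ε : (Fin d ⊕ Fin d) → F)
    (hx : ∀ k, (x : Matrix (Fin d ⊕ Fin d) (Fin d ⊕ Fin d) F) *ᵥ Sum.elim u v k = ε k • Sum.elim u v (σ k))
    (hx' : ∀ k, (x' : Matrix (Fin d ⊕ Fin d) (Fin d ⊕ Fin d) F) *ᵥ Sum.elim u' v' k = ε k • Sum.elim u' v' (σ k)) :
    ∃ g ∈ Cfsg.spGL d F, g⁻¹ * x * g = x' := by
  obtain ⟨w, hw⟩ := h.exists_basis
  obtain ⟨w', hw'⟩ := h'.exists_basis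
  obtain ⟨s, hs⟩ := Forms.exists_smul_tuple (Sum.elim u' v') (Sum.elim u v) (hw' ▸ w'.linearIndependent)
    (hw ▸ w.linearIndependent) (by
      rintro (i | i) (j | j) <;> simp only [Sum.elim_inl, Sum.elim_inr, ← Forms.sympBilin_apply, h.uv, h.uu,
        h.vv, h'.uv, h'.uu, h'.vv]
      rw [← LinearMap.IsAlt.neg (B := B₀) Forms.sympBilin_isAlt (u j) (v i),
        ← LinearMap.IsAlt.neg (B := B₀) Forms.sympBilin_isAlt (u' j) (v' i), h.uv, h'.uv])
  set g := SpGL.equivSp.symm s
  have hg : ∀ k, (g.1 : Matrix (Fin d ⊕ Fin d) (Fin d ⊕ Fin d) F) *ᵥ Sum.elim u' v' k = Sum.elim u v k := hs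
  refine ⟨g.1, g.2, ?_⟩
  rw [mul_assoc, inv_mul_eq_iff_eq_mul]
  refine Units.ext (Matrix.toLin'.injective (w'.ext fun k => ?_))
  simp only [Units.val_mul, Matrix.toLin'_apply, hw', ← Matrix.mulVec_mulVec, hg, hx, hx', Matrix.mulVec_smul]

variable {T : Module.End F (Vec d F)}

/-- An adapted family for a symplectic involution. -/
theorem exists_fam_one (h2 : (2 : F) ≠ 0) (hT : ∀ x y, B₀ (T x) (T y) = B₀ x y) (hTT : ∀ x, T (T x) = x) :
    ∃ (ε : Fin d → F) (u v : Fin d → Vec d F), Fam u v ∧ (∀ i, ε i * ε i = 1) ∧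
      ∀ i, T (u i) = ε i • u i ∧ T (v i) = ε i • v i := by
  set A := LinearMap.ker (T - 1)
  set C := LinearMap.ker (T + 1)
  have hA : ∀ x ∈ A, T x = x := fun x hx => sub_eq_zero.1 hx
  have hC : ∀ x ∈ C, T x = -x := fun x hx => eq_neg_of_add_eq_zero_left hx
  have horth : ∀ x ∈ A, ∀ y ∈ C, B₀ x y = 0 := fun x hx y hy => by
    have e := hT x y
    rw [hA x hx, hC y hy, map_neg] at e
    exact (mul_eq_zero.1 (show (2 : F) * B₀ x y = 0 by linear_combination -e)).resolve_left h2
  have horth' : ∀ x ∈ C, ∀ y ∈ A, B₀ x y = 0 := fun x hx y hy =>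
    SympInv.swap_zero Forms.sympBilin_isAlt (horth y hy x hx)
  have hsplit : ∀ x, ∃ p ∈ A, ∃ m ∈ C, p + m = x := fun x =>
    ⟨(2 : F)⁻¹ • (x + T x), by
      show (T - 1) _ = 0
      simp only [LinearMap.sub_apply, Module.End.one_apply, map_smul, map_add, hTT]
      module,
      (2 : F)⁻¹ • (x - T x), by
      show (T + 1) _ = 0
      simp only [LinearMap.add_apply, Module.End.one_apply, map_smul, map_sub, hTT]
      module,
      by rw [← smul_add, show x + T x + (x - T x) = (2 : F) • x by module, smul_smul, inv_mul_cancel₀ h2, one_smul]⟩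
  have hAn : SympInv.Nd B₀ A := fun x hx h => Forms.sympBilin_nondegenerate.1 x fun y => by
    obtain ⟨p, hp, m, hm, rfl⟩ := hsplit y
    rw [map_add, h p hp, horth x hx m hm, add_zero]
  have hCn : SympInv.Nd B₀ C := fun x hx h => Forms.sympBilin_nondegenerate.1 x fun y => by
    obtain ⟨p, hp, m, hm, rfl⟩ := hsplit y
    rw [map_add, h m hm, horth' x hx p hp, add_zero]
  obtain ⟨m₁, p, p', hp, hp', h11, h12, h13, h14⟩ := Forms.exists_symplectic_family B₀ Forms.sympBilin_isAlt A hAn
  obtain ⟨m₂, n, n', hn, hn', h21, h22, h23, h24⟩ := Forms.exists_symplectic_family B₀ Forms.sympBilin_isAlt C hCn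
  have e1 := Forms.finrank_eq_of_symplectic_family B₀ Forms.sympBilin_isAlt A p p' hp hp' h11 h12 h13 h14
  have e2 := Forms.finrank_eq_of_symplectic_family B₀ Forms.sympBilin_isAlt C n n' hn hn' h21 h22 h23 h24
  have hinf : A ⊓ C = ⊥ := (Submodule.eq_bot_iff _).2 fun x hx => by
    have : x = -x := (hA x hx.1).symm.trans (hC x hx.2)
    exact (smul_eq_zero.1 (show (2 : F) • x = 0 by linear_combination (norm := module) this)).resolve_left h2
  have hsup : A ⊔ C = ⊤ := eq_top_iff.2 fun x _ => Submodule.mem_sup.2 (hsplit x)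
  have e3 := Submodule.finrank_sup_add_finrank_inf_eq A C
  rw [hinf, hsup, finrank_bot, finrank_top, e1, e2, Module.finrank_pi, Fintype.card_sum, Fintype.card_fin] at e3
  let σ : Fin d ≃ Fin m₁ ⊕ Fin m₂ := (finCongr (by omega)).trans finSumFinEquiv.symm
  refine ⟨fun i => Sum.elim (fun _ => 1) (fun _ => -1) (σ i), fun i => Sum.elim p n (σ i),
    fun i => Sum.elim p' n' (σ i), ⟨fun i j => ?_, fun i j => ?_, fun i j => ?_⟩, fun i => ?_, fun i => ?_⟩
  · have e : (i = j) = (σ i = σ j) := propext σ.injective.eq_iff.symm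
    simp only [e]
    rcases σ i with k | k <;> rcases σ j with l | l <;>
      simp [h11, h21, horth _ (hp _) _ (hn' _), horth' _ (hn _) _ (hp' _)]
  · rcases hi : σ i with k | k <;> rcases hj : σ j with l | l <;>
      simp [h12, h22, horth _ (hp _) _ (hn _), horth' _ (hn _) _ (hp _)]
  · rcases hi : σ i with k | k <;> rcases hj : σ j with l | l <;>
      simp [h13, h23, horth _ (hp' _) _ (hn' _), horth' _ (hn' _) _ (hp' _)]
  · rcases hi : σ i with k | k <;> simp [hi]
  · rcases hi : σ i with k | k <;> simp [hi, hA _ (hp _), hA _ (hp' _), hC _ (hn _), hC _ (hn' _)]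

/-- An adapted family for a symplectic square root of minus one. -/
theorem exists_fam_neg (h2 : (2 : F) ≠ 0) (hT : ∀ x y, B₀ (T x) (T y) = B₀ x y) (hTT : ∀ x, T (T x) = -x) :
    ∃ u : Fin d → Vec d F, Fam u (fun i => T (u i)) := by
  have key : ∀ (n : ℕ) (X : Submodule F (Vec d F)), finrank F X = n → SympInv.Nd B₀ X → (∀ x ∈ X, T x ∈ X) →
      ∃ (m : ℕ) (u : Fin m → Vec d F), n = 2 * m ∧ (∀ i, u i ∈ X) ∧
        (∀ i j, B₀ (u i) (T (u j)) = if i = j then 1 else 0) ∧ ∀ i j, B₀ (u i) (u j) = 0 := by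
    intro n
    induction n using Nat.strong_induction_on with
    | _ n ih =>
      intro X hn hX hXi
      rcases Nat.eq_zero_or_pos n with rfl | hpos
      · exact ⟨0, Fin.elim0, rfl, fun i => i.elim0, fun i => i.elim0, fun i => i.elim0⟩
      have hskew : ∀ x y, B₀ x (T y) = -B₀ (T x) y := fun x y => by
        rw [← hT x (T y), hTT, map_neg]
      have hsymm : ∀ x y, B₀ x (T y) = B₀ y (T x) := fun x y => by
        rw [hskew, LinearMap.IsAlt.neg (B := B₀) Forms.sympBilin_isAlt]
      obtain ⟨w, hwX, hw⟩ : ∃ w ∈ X, B₀ w (T w) ≠ 0 := by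
        by_contra hc
        push Not at hc
        obtain ⟨x, hx, hx0⟩ := Submodule.exists_mem_ne_zero_of_ne_bot (fun e : X = ⊥ => by
          rw [e, finrank_bot] at hn; omega)
        refine hx0 (hX x hx fun y hy => ?_)
        have e := hc (x + T y) (X.add_mem hx (hXi y hy))
        have e1 := hc x hx
        have e2 := hc (T y) (hXi y hy)
        have e3 := LinearMap.IsAlt.neg (B := B₀) Forms.sympBilin_isAlt x y
        simp only [map_add, LinearMap.add_apply, hTT, map_neg, hT] at e e2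
        exact (mul_eq_zero.1 (show (2 : F) * B₀ x y = 0 by linear_combination e1 + e2 - e - e3)).resolve_left h2
      obtain ⟨s, t, hst⟩ := SympConj.exists_form_value (z := (-1 : F)) (d := (B₀ w (T w))⁻¹)
        (fun _ => neg_ne_zero.2 one_ne_zero)
      set v := s • w + t • T w with hv
      have hself : ∀ x, B₀ x x = 0 := fun x => Forms.sympBilin_isAlt x
      have hv1 : B₀ v (T v) = 1 := by
        simp only [hv, map_add, map_smul, hTT, LinearMap.add_apply, LinearMap.smul_apply, smul_eq_mul, map_neg,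
          hself, ← LinearMap.IsAlt.neg (B := B₀) Forms.sympBilin_isAlt w (T w)]
        linear_combination B₀ w (T w) * hst + mul_inv_cancel₀ hw
      have hvX : v ∈ X := X.add_mem (X.smul_mem _ hwX) (X.smul_mem _ (hXi w hwX))
      set U := Submodule.span F (Set.range ![v, T v])
      have hv2 : B₀ (T v) v = -1 := by rw [← LinearMap.IsAlt.neg (B := B₀) Forms.sympBilin_isAlt, hv1]
      have hmemU : ∀ x ∈ U, ∃ p q : F, x = p • v + q • T v := fun x hx => by
        obtain ⟨cf, rfl⟩ := (Submodule.mem_span_range_iff_exists_fun F).1 hx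
        exact ⟨cf 0, cf 1, by simp [Fin.sum_univ_two]⟩
      have hvU : v ∈ U := Submodule.subset_span ⟨0, rfl⟩
      have hTvU : T v ∈ U := Submodule.subset_span ⟨1, rfl⟩
      have hli : LinearIndependent F ![v, T v] := LinearIndependent.pair_iff.2 fun p q e => by
        have e1 := congrArg (fun x => B₀ x (T v)) e
        have e2 := congrArg (fun x => B₀ x v) e
        simp [hv1, hv2, hself] at e1 e2
        exact ⟨e1, e2⟩
      have hU2 : finrank F U = 2 := by rw [finrank_span_eq_card hli, Fintype.card_fin]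
      have hUX : U ≤ X := Submodule.span_le.2 (by
        rintro _ ⟨k, rfl⟩; fin_cases k <;> simp [hvX, hXi v hvX])
      have hUn : SympInv.Nd B₀ U := fun x hx hz => by
        obtain ⟨p, q, rfl⟩ := hmemU x hx
        have e1 := hz (T v) hTvU
        have e2 := hz v hvU
        simp [hv1, hv2, hself] at e1 e2
        rw [e1, e2, zero_smul, zero_smul, add_zero]
      obtain ⟨-, -, hRn, hRd⟩ := SympInv.split Forms.sympBilin_isAlt hUX hUn hX
      obtain ⟨m, u, hm, huR, hu1, hu2⟩ := ih (finrank F ↥(X ⊓ SympInv.perp B₀ U)) (by omega) _ rfl hRn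
        (fun x hx => ⟨hXi x hx.1, SympInv.mem_perp.2 fun y hy => by
          have hTy : T y ∈ U := by
            obtain ⟨p, q, rfl⟩ := hmemU y hy
            rw [map_add, map_smul, map_smul, hTT]
            exact U.add_mem (U.smul_mem _ hTvU) (U.smul_mem _ (U.neg_mem hvU))
          rw [hskew, SympInv.mem_perp.1 hx.2 _ hTy, neg_zero]⟩)
      have hperp : ∀ i, B₀ v (u i) = 0 ∧ B₀ (T v) (u i) = 0 := fun i =>
        ⟨SympInv.mem_perp.1 (huR i).2 v hvU, SympInv.mem_perp.1 (huR i).2 _ hTvU⟩
      have h0v : ∀ i, B₀ v (T (u i)) = 0 ∧ B₀ (u i) (T v) = 0 ∧ B₀ (u i) v = 0 := fun i => by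
        refine ⟨by rw [hskew, (hperp i).2, neg_zero], ?_, SympInv.swap_zero Forms.sympBilin_isAlt (hperp i).1⟩
        exact SympInv.swap_zero Forms.sympBilin_isAlt (hperp i).2
      refine ⟨m + 1, Fin.cons v u, by omega, Fin.cases hvX fun i => (huR i).1, fun i j => ?_, fun i j => ?_⟩
      · refine Fin.cases ?_ (fun i => ?_) i <;> refine Fin.cases ?_ (fun j => ?_) j
        · simpa using hv1
        · simp [(h0v j).1, (Fin.succ_ne_zero j).symm]
        · simp [(h0v i).2.1, Fin.succ_ne_zero]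
        · simp [hu1]
      · refine Fin.cases ?_ (fun i => ?_) i <;> refine Fin.cases ?_ (fun j => ?_) j <;>
          simp [hself, hperp, h0v, hu2]
  obtain ⟨m, u, hm, -, h1, h3⟩ := key _ ⊤ rfl SympInv.nd_top fun _ _ => Submodule.mem_top
  rw [finrank_top, Module.finrank_pi, Fintype.card_sum, Fintype.card_fin] at hm
  obtain rfl : m = d := by omega
  exact ⟨u, h1, h3, fun i j => by rw [hT]; exact h3 i j⟩

end Conjugacy

end Cfsg.Agent.SpTensor
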